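import Groth.Prelude.Def_RDer

/-!
The second edge map of a composite functor when the low derived functors of the first one vanish.
-/

universe v₁ v₂ v₃ u₁ u₂ u₃

open CategoryTheory CategoryTheory.Limits HomologicalComplex

namespace Groth.Agent.LocCohLib

variable {B : Type u₂} [Category.{v₂} B] [Abelian B] {C : Type u₃} [Category.{v₃} C] [Abelian C]
  (Ψ : B ⥤ C) [Ψ.Additive] [PreservesFiniteLimits Ψ]

instance isIso_cyclesComparison {ι' : Type*} {c : ComplexShape ι'} (K : HomologicalComplex B c) (i : ι') :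
    IsIso (RDer.cyclesComparison Ψ K i) := by
  let hk := KernelFork.mapIsLimit _ (K.cyclesIsKernel i (c.next i) rfl) Ψ
  have he := IsLimit.conePointUniqueUpToIso_hom_comp (((Ψ.mapHomologicalComplex c).obj K).cyclesIsKernel i (c.next i) rfl)
    hk WalkingParallelPair.zero
  have : RDer.cyclesComparison Ψ K i = (IsLimit.conePointUniqueUpToIso
      (((Ψ.mapHomologicalComplex c).obj K).cyclesIsKernel i (c.next i) rfl) hk).hom :=
    Fork.IsLimit.hom_ext hk ((RDer.cyclesComparison_i Ψ K i).trans he.symm)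
  rw [this]
  infer_instance

/-- The incoming differential in degree `i` is von Neumann regular. -/
def RegDiff {ι' : Type*} {c : ComplexShape ι'} (K : HomologicalComplex B c) (j i : ι') : Prop :=
  ∃ t : K.X i ⟶ K.X j, K.d j i ≫ t ≫ K.d j i = K.d j i

theorem prev_up_nat (n : ℕ) : (ComplexShape.up ℕ).prev n = n - 1 := by
  rcases n with _ | m <;> simp

theorem regDiff_of_exact (K : CochainComplex B ℕ) [∀ p, Injective (K.X p)] (n : ℕ)
    (h : ∀ p, p < n → K.ExactAt p) : RegDiff K (n - 1) n := by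
  induction n with
  | zero => exact ⟨0, by simp [K.shape 0 0 (by simp)]⟩
  | succ n ih =>
    obtain ⟨t, ht⟩ := ih fun p hp => h p (by omega)
    have hex : (K.sc' (n - 1) n (n + 1)).Exact :=
      (K.exactAt_iff' (n - 1) n (n + 1) (prev_up_nat n) (by simp)).1 (h n (by omega))
    let e : K.X n ⟶ K.X n := 𝟙 _ - t ≫ K.d (n - 1) n
    have he : K.d (n - 1) n ≫ e = 0 := by simp [e, Preadditive.comp_sub, ht]
    refine ⟨hex.descToInjective e he, ?_⟩
    show K.d n (n + 1) ≫ hex.descToInjective e he ≫ K.d n (n + 1) = K.d n (n + 1)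
    have : K.d n (n + 1) ≫ hex.descToInjective e he = e := hex.comp_descToInjective e he
    rw [← Category.assoc, this]
    simp [e, Preadditive.sub_comp]

theorem isIso_homologyComparison {ι' : Type*} {c : ComplexShape ι'} (K : HomologicalComplex B c) (i : ι')
    (h : RegDiff K (c.prev i) i) : IsIso (RDer.homologyComparison Ψ K i) := by
  obtain ⟨t, ht⟩ := h
  let T := K.toCycles (c.prev i) i
  let u : K.cycles i ⟶ K.X (c.prev i) := K.iCycles i ≫ t
  have hTu : T ≫ u ≫ T = T := (cancel_mono (K.iCycles i)).1 (by simp [T, u, ht])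
  have hT : T ≫ (𝟙 _ - u ≫ T) = 0 := by rw [Preadditive.comp_sub, Category.comp_id, hTu, sub_self]
  obtain ⟨r, hr⟩ := CokernelCofork.IsColimit.desc' (K.homologyIsCokernel (c.prev i) i rfl) _ hT
  replace hr : K.homologyπ i ≫ r = 𝟙 _ - u ≫ T := hr
  have hrπ : r ≫ K.homologyπ i = 𝟙 _ := by
    rw [← cancel_epi (K.homologyπ i), ← Category.assoc, hr]
    simp [T, Preadditive.sub_comp]
  let K' := (Ψ.mapHomologicalComplex c).obj K
  refine ⟨Ψ.map r ≫ inv (RDer.cyclesComparison Ψ K i) ≫ K'.homologyπ i, ?_, ?_⟩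
  · rw [← cancel_epi (K'.homologyπ i), Category.comp_id, RDer.homologyπ_homologyComparison_assoc]
    have hz : Ψ.map T ≫ inv (RDer.cyclesComparison Ψ K i) ≫ K'.homologyπ i = 0 := by
      refine (congrArg (· ≫ inv (RDer.cyclesComparison Ψ K i) ≫ K'.homologyπ i) (RDer.toCycles_cyclesComparison Ψ K i).symm).trans ?_
      refine ((Category.assoc _ _ _).trans (congrArg (_ ≫ ·) (IsIso.hom_inv_id_assoc _ _))).trans ?_
      exact K'.toCycles_comp_homologyπ _ _
    rw [← Ψ.map_comp_assoc, hr, Ψ.map_sub, Ψ.map_id, Ψ.map_comp, Preadditive.sub_comp, Category.id_comp,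
      Preadditive.comp_sub, IsIso.hom_inv_id_assoc, Category.assoc, hz, comp_zero, comp_zero, sub_zero]
  · rw [Category.assoc, Category.assoc, RDer.homologyπ_homologyComparison, IsIso.inv_hom_id_assoc,
      ← Ψ.map_comp, hrπ]
    exact Ψ.map_id _

section Derived

variable {A : Type u₁} [Category.{v₁} A] [Abelian A] [HasInjectiveResolutions A]
  (Φ : A ⥤ B) [Φ.Additive] [Φ.PreservesInjectiveObjects]

omit [PreservesFiniteLimits Ψ] [Ψ.Additive] in
theorem exactAt_of_rightDerived_eq_zero (X : A) (n : ℕ) (h : IsZero ((Φ.rightDerived n).obj X)) :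
    ((Φ.mapHomologicalComplex _).obj (injectiveResolution X).cocomplex).ExactAt n := by
  rw [HomologicalComplex.exactAt_iff_isZero_homology]
  exact h.of_iso ((injectiveResolution X).isoRightDerivedObj Φ n).symm

theorem regDiff_of_vanishing (X : A) (n : ℕ) (h : ∀ p, p < n → IsZero ((Φ.rightDerived p).obj X)) :
    RegDiff ((Φ.mapHomologicalComplex _).obj (injectiveResolution X).cocomplex) ((ComplexShape.up ℕ).prev n) n := by
  have := regDiff_of_exact ((Φ.mapHomologicalComplex _).obj (injectiveResolution X).cocomplex) n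
    fun p hp => exactAt_of_rightDerived_eq_zero Φ X p (h p hp)
  rwa [prev_up_nat]

theorem isIso_edgeOut (X : A) (n : ℕ) (h : ∀ p, p < n → IsZero ((Φ.rightDerived p).obj X)) :
    IsIso (RDer.edgeOut Φ Ψ n X) := by
  have := isIso_homologyComparison Ψ _ n (regDiff_of_vanishing Φ X n h)
  haveI : IsIso (RDer.homologyComparison Ψ ((Φ.mapHomologicalComplex (ComplexShape.up ℕ)).obj (injectiveResolution X).cocomplex) n) := this
  haveI : IsIso (Ψ.map ((injectiveResolution X).isoRightDerivedObj Φ n).inv) := inferInstance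
  unfold RDer.edgeOut
  exact IsIso.comp_isIso' inferInstance (IsIso.comp_isIso' ‹_› ‹_›)

theorem isZero_rightDerived_comp (X : A) (n : ℕ) (h : ∀ p, p < n → IsZero ((Φ.rightDerived p).obj X))
    (p : ℕ) (hp : p < n) : IsZero (((Φ ⋙ Ψ).rightDerived p).obj X) := by
  have := isIso_edgeOut Ψ Φ X p fun q hq => h q (hq.trans hp)
  exact (Ψ.map_isZero (h p hp)).of_iso (asIso (RDer.edgeOut Φ Ψ p X))

end Derived

end Groth.Agent.LocCohLib
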