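import Groth.Agent.LocCohLib.OpenSES
import Groth.Agent.TateLocal.Tate
import Groth.Agent.EtMVLib.PullSec

/-!
Restricting local cohomology groups to the complement of a small closed subset.
-/

universe u

open CategoryTheory CategoryTheory.Limits AlgebraicGeometry Opposite

namespace Groth.Agent.LocCohLib

set_option backward.isDefEq.respectTransparency.types false

open Groth.Agent.EtFound

variable {X : Scheme.{u}}

theorem gammaSupp_eq {U : Scheme.{u}} (j : U ⟶ X) [EtCoh.BCCont j] :
    EtDual.gammaSupp j = EtDual.secSupp j ⋙ EtCore.gsec X := rfl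

theorem gsec_additive : (EtCore.gsec X).Additive :=
  inferInstanceAs (sheafToPresheaf X.smallEtaleTopology AddCommGrpCat.{u+1} ⋙
    (evaluation X.Etaleᵒᵖ AddCommGrpCat.{u+1}).obj (op (EtCoh.top X))).Additive

attribute [local instance] gsec_additive

variable {X' : Scheme.{u}} (k : X' ⟶ X) [IsOpenImmersion k] [EtCoh.BCCont k]

/-- Global sections of `0 → Γ_Z J → J → k_* k^* J → 0` for injective `J`. -/
noncomputable def gsecSES : InjSES (EtDual.secSupp k ⋙ EtCore.gsec X) (EtCore.gsec X) (EtCoh.pull k ⋙ EtCore.gsec X') where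
  α := Functor.whiskerRight (openSES k).α (EtCore.gsec X)
  β := EtMVLib.pullSec k
  zero F := by
    rw [EtMVLib.pullSec_app]
    refine (Category.assoc _ _ _).symm.trans ?_
    refine (congrArg (· ≫ _) (((EtCore.gsec X).map_comp _ _).symm.trans
      ((congrArg (EtCore.gsec X).map ((openSES k).zero F)).trans ((EtCore.gsec X).map_zero _ _)))).trans zero_comp
  shortExact I hI := by
    let S := ShortComplex.mk ((openSES k).α.app I) ((openSES k).β.app I) ((openSES k).zero I)
    have hS : S.ShortExact := (openSES k).shortExact I hI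
    haveI := hS.mono_f
    haveI : Balanced (EtCoh.Ab X) := inferInstance
    let s : S.Splitting := ShortComplex.Splitting.ofExactOfSection S hS.exact (splitEpiUnit k I).section_
      (splitEpiUnit k I).id hS.mono_f
    have h1 : (S.map (EtCore.gsec X)).ShortExact := (s.map (EtCore.gsec X)).shortExact
    refine ShortComplex.shortExact_of_iso ?_ h1
    exact ShortComplex.isoMk (Iso.refl _) (Iso.refl _) ((EtCore.pushGsecIso k).app ((EtCoh.pull k).obj I))
      ((Category.id_comp _).trans (Category.comp_id _).symm)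
      ((Category.id_comp _).trans (EtMVLib.pullSec_app k I))

/-- A short exact sequence on injectives, precomposed with a functor preserving injectives. -/
noncomputable def InjSES.precomp {A : Type*} [Category A] [Abelian A] {B : Type*} [Category B] [Abelian B]
    {C : Type*} [Category C] [Abelian C] {F G H : B ⥤ C} (S : InjSES F G H) (E : A ⥤ B)
    [E.PreservesInjectiveObjects] : InjSES (E ⋙ F) (E ⋙ G) (E ⋙ H) where
  α := Functor.whiskerLeft E S.α
  β := Functor.whiskerLeft E S.β
  zero X := S.zero (E.obj X)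
  shortExact I hI := S.shortExact (E.obj I) (E.injective_obj I)

variable {U : Scheme.{u}} (j : U ⟶ X) [IsOpenImmersion j] [EtCoh.BCCont j] (j' : U ⟶ X') [IsOpenImmersion j']
  [EtCoh.BCCont j'] (hfac : j' ≫ k = j)

include hfac in
theorem nonempty_HY_iso_pull (F : EtCoh.Ab X) (q : ℕ) (hF : ∀ p, p ≤ q + 1 → IsZero ((EtDual.locCoh k p).obj F)) :
    Nonempty ((EtDual.HY j q).obj F ≅ (EtDual.HY j' q).obj ((EtCoh.pull k).obj F)) := by
  haveI := secSupp_preservesInjective j
  haveI := secSupp_preservesInjective k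
  haveI := pull_preservesFiniteLimits k
  haveI := pull_preservesInjective k
  haveI := secSupp_preservesFiniteLimits k
  have hUV : Set.range j.base ⊆ Set.range k.base := by
    rw [← hfac]
    rintro _ ⟨x, rfl⟩
    exact ⟨j'.base x, (Scheme.Hom.comp_apply _ _ _).symm⟩
  have hU : Set.range j'.base = k.base ⁻¹' Set.range j.base := by
    subst hfac
    ext x
    refine ⟨?_, ?_⟩
    · rintro ⟨y, rfl⟩
      exact ⟨y, (Scheme.Hom.comp_apply _ _ _)⟩
    · rintro ⟨y, hy⟩
      rw [Scheme.Hom.comp_apply] at hy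
      exact ⟨y, k.isOpenEmbedding.injective hy⟩
  let S := InjSES.precomp (gsecSES k) (EtDual.secSupp j)
  let eF : EtDual.secSupp j ⋙ EtDual.secSupp k ⋙ EtCore.gsec X ≅ EtDual.secSupp k ⋙ EtCore.gsec X :=
    Functor.isoWhiskerRight (secSuppCompIso j k fun ψ => pull_map_eq_zero_of_factor j k hUV ψ) (EtCore.gsec X)
  let eH : EtDual.secSupp j ⋙ EtCoh.pull k ⋙ EtCore.gsec X' ≅ EtCoh.pull k ⋙ EtDual.secSupp j' ⋙ EtCore.gsec X' :=
    Functor.isoWhiskerRight (pullSecSuppIso j k j' hU) (EtCore.gsec X')
  haveI : PreservesFiniteLimits (EtCore.gsec X) :=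
    inferInstanceAs (PreservesFiniteLimits (sheafToPresheaf X.smallEtaleTopology AddCommGrpCat.{u+1} ⋙
      (evaluation X.Etaleᵒᵖ AddCommGrpCat.{u+1}).obj (op (EtCoh.top X))))
  have hz : ∀ p, p ≤ q + 1 →
      IsZero (((EtDual.secSupp j ⋙ EtDual.secSupp k ⋙ EtCore.gsec X).rightDerived p).obj F) := fun p hp =>
    (isZero_rightDerived_comp (EtCore.gsec X) (EtDual.secSupp k) F (q + 2) (fun p' hp' => hF p' (by omega)) p
      (by omega)).of_iso ((RDer.rightDerivedIso eF p).app F)
  obtain ⟨e₁⟩ := InjSES.nonempty_iso_right S F q (hz q (by omega)) (hz (q + 1) le_rfl)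
  obtain ⟨e₂⟩ := nonempty_rightDerived_precomp (EtCoh.pull k) (EtDual.secSupp j' ⋙ EtCore.gsec X') F q
  exact ⟨e₁ ≪≫ (RDer.rightDerivedIso eH q).app F ≪≫ e₂⟩

end Groth.Agent.LocCohLib
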