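import Groth.Agent.LocCohLib.SecSupp
import Groth.Agent.EtFound.JContGen
import Groth.Agent.EtFound.Detect
import Groth.Agent.EtFound.ExtZeroExact
import Mathlib.CategoryTheory.Preadditive.Injective.Resolution

/-!
Local cohomology sheaves commute with étale localisation.
-/

universe u

open CategoryTheory CategoryTheory.Limits AlgebraicGeometry Opposite

namespace Groth.Agent.LocCohLib

set_option backward.isDefEq.respectTransparency.types false

open Groth.Agent.EtFound

variable {X U : Scheme.{u}} (j : U ⟶ X) [IsOpenImmersion j] [EtCoh.BCCont j]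

theorem stalk_map_eq_zero_iff {Y Z : Scheme.{u}} (f : Z ⟶ Y) {G I : EtCoh.Ab Y} (ψ : G ⟶ I)
    {Ω : Type u} [Field Ω] [IsSepClosed Ω] (z : Spec (CommRingCat.of Ω) ⟶ Z) :
    (EtCoh.stalk z).map ((EtCoh.pull f).map ψ) = 0 ↔ (EtCoh.stalk (z ≫ f)).map ψ = 0 := by
  let e := sheafFiberPullIso (A := AddCommGrpCat.{u + 1}) f z
  constructor
  · intro h
    refine (cancel_epi (e.hom.app G)).1 ((e.hom.naturality ψ).symm.trans ?_)
    exact (congrArg (· ≫ e.hom.app I) h).trans (zero_comp.trans comp_zero.symm)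
  · intro h
    refine (cancel_mono (e.hom.app I)).1 ((e.hom.naturality ψ).trans ?_)
    exact (congrArg (e.hom.app G ≫ ·) h).trans (comp_zero.trans zero_comp.symm)

theorem pull_map_eq_zero_iff_stalks {G I : EtCoh.Ab X} (ψ : G ⟶ I) :
    (EtCoh.pull j).map ψ = 0 ↔ ∀ (Ω : Type u) [Field Ω] [IsSepClosed Ω] (ξ : Spec (CommRingCat.of Ω) ⟶ X),
      ξ.base (default : Spec (CommRingCat.of Ω)) ∈ Set.range j.base → (EtCoh.stalk ξ).map ψ = 0 := by
  constructor
  · intro h Ω _ _ ξ hξ
    have hr : Set.range ξ.base ⊆ Set.range j.base := by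
      rintro _ ⟨p, rfl⟩
      rwa [Unique.eq_default p]
    have hz := (stalk_map_eq_zero_iff j ψ (IsOpenImmersion.lift j ξ hr)).1 (by rw [h, Functor.map_zero])
    rwa [IsOpenImmersion.lift_fac] at hz
  · intro h
    refine eq_of_stalks _ _ fun Ω _ _ z => ?_
    refine ((stalk_map_eq_zero_iff j ψ z).2 (h Ω _ ⟨_, (Scheme.Hom.comp_apply _ _ _).symm⟩)).trans ?_
    exact ((EtCoh.stalk z).map_zero _ _).symm

variable {X' U' : Scheme.{u}} (π : X' ⟶ X) [AlgebraicGeometry.Etale π]

/-- Restriction along an étale morphism is the inverse image. -/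
noncomputable def restrIsoPull' [EtShriek.JCont π] : EtShriek.restrAlong π ≅ EtCoh.pull π :=
  let a : EtShriek.compEtale π ⊣ EtCoh.bc π :=
    MorphismProperty.Over.mapPullbackAdj EtCoh.etaleMP ⊤ π
      (inferInstanceAs (AlgebraicGeometry.Etale π)) trivial
  Adjunction.leftAdjointUniq
    (a.sheafPushforwardContinuous
      (E := AddCommGrpCat.{u + 1}) X'.smallEtaleTopology X.smallEtaleTopology)
    (EtCoh.pullPushAdj π)

/-- `π_! ⊣ π^*` for étale `π`. -/
noncomputable def etShriekAdj [EtShriek.JCont π] : EtShriek.extZero π ⊣ EtCoh.pull π :=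
  (EtShriek.extZeroAdj π).ofNatIsoRight (restrIsoPull' π)

theorem pull_preservesInjective : (EtCoh.pull π).PreservesInjectiveObjects := by
  haveI := jCont π
  haveI := extZero_preservesFiniteLimits π
  exact ⟨fun {I} hI => (etShriekAdj π).map_injective I hI⟩

theorem pull_additive {Y Z : Scheme.{u}} (f : Z ⟶ Y) : (EtCoh.pull f).Additive :=
  (EtCoh.pullPushAdj f).left_adjoint_additive

variable (j' : U' ⟶ X') [IsOpenImmersion j'] [EtCoh.BCCont j']
  (hU : Set.range j'.base = π.base ⁻¹' Set.range j.base)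

include hU in
theorem pull_map_secSupp {G I : EtCoh.Ab X} (ψ : G ⟶ I) (h : (EtCoh.pull j).map ψ = 0) :
    (EtCoh.pull j').map ((EtCoh.pull π).map ψ) = 0 := by
  refine (pull_map_eq_zero_iff_stalks j' _).2 fun Ω _ _ z hz => (stalk_map_eq_zero_iff π ψ z).2 ?_
  refine (pull_map_eq_zero_iff_stalks j ψ).1 h Ω _ ?_
  rw [hU] at hz
  rwa [Scheme.Hom.comp_apply]

include hU in
theorem comp_map_unit_eq_zero {F : EtCoh.Ab X} {H : EtCoh.Ab X'} (ψ : H ⟶ (EtCoh.pull π).obj F)
    (h : (EtCoh.pull j').map ψ = 0) : ψ ≫ (EtCoh.pull π).map (EtDual.unitApp j F) = 0 := by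
  haveI := jCont π
  haveI := extZero_preservesFiniteLimits π
  let adj := etShriekAdj π
  have hφ : (EtCoh.pull j).map ((EtShriek.extZero π).map ψ) = 0 := by
    refine (pull_map_eq_zero_iff_stalks j _).2 fun Ω _ _ ξ hξ => ?_
    refine Cofan.IsColimit.hom_ext (extZeroCofanIsColimit π ξ H) _ _ fun z => ?_
    refine (extZeroι_naturality π ξ ψ z).symm.trans ?_
    have h0 : (EtCoh.stalk z.1).map ψ = 0 := (pull_map_eq_zero_iff_stalks j' ψ).1 h Ω z.1 (by
      rw [hU]
      show π.base (z.1.base default) ∈ Set.range j.base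
      rw [← Scheme.Hom.comp_apply, z.2]
      exact hξ)
    exact (congrArg (· ≫ _) h0).trans (zero_comp.trans comp_zero.symm)
  let φ : (EtShriek.extZero π).obj H ⟶ F := (adj.homEquiv _ _).symm ψ
  have hφ' : φ ≫ EtDual.unitApp j F = 0 := by
    rw [comp_unitApp_eq_zero_iff]
    simp only [φ, Adjunction.homEquiv_counit, Functor.map_comp, hφ, zero_comp]
  have : ψ = (adj.homEquiv _ _) φ := ((adj.homEquiv _ _).apply_symm_apply ψ).symm
  rw [this, ← Adjunction.homEquiv_naturality_right, hφ', Adjunction.homEquiv_unit, Functor.map_zero, comp_zero]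

/-- `π^* Γ_Y ≅ Γ_{Y'} π^*`. -/
noncomputable def pullSecSuppIso : EtDual.secSupp j ⋙ EtCoh.pull π ≅ EtCoh.pull π ⋙ EtDual.secSupp j' :=
  haveI := pull_preservesFiniteLimits π
  haveI := pull_additive π
  NatIso.ofComponents (fun F =>
    { hom := kernel.lift (EtDual.unitApp j' ((EtCoh.pull π).obj F)) ((EtCoh.pull π).map (kernel.ι (EtDual.unitApp j F)))
        ((comp_unitApp_eq_zero_iff j' _).2 (pull_map_secSupp j π j' hU _
          ((comp_unitApp_eq_zero_iff j _).1 (kernel.condition _))))
      inv := kernel.lift ((EtCoh.pull π).map (EtDual.unitApp j F)) (kernel.ι (EtDual.unitApp j' ((EtCoh.pull π).obj F)))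
        (comp_map_unit_eq_zero j π j' hU _ ((comp_unitApp_eq_zero_iff j' _).1 (kernel.condition _))) ≫
          (PreservesKernel.iso (EtCoh.pull π) (EtDual.unitApp j F)).inv
      hom_inv_id := by
        haveI : Mono ((EtCoh.pull π).map (kernel.ι (EtDual.unitApp j F))) := inferInstance
        rw [← cancel_mono ((EtCoh.pull π).map (kernel.ι (EtDual.unitApp j F)))]
        simp
      inv_hom_id := by
        rw [← cancel_mono (kernel.ι _)]
        simp })
    (fun {F F'} f => by
      rw [← cancel_mono (kernel.ι _)]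
      simp [← Functor.map_comp])

include hU in
/-- `π^* ℋ^p_Y ≅ ℋ^p_{Y'} π^*`. -/
theorem pull_locCoh_iso (F : EtCoh.Ab X) (p : ℕ) :
    Nonempty ((EtCoh.pull π).obj ((EtDual.locCoh j p).obj F) ≅ (EtDual.locCoh j' p).obj ((EtCoh.pull π).obj F)) := by
  haveI := pull_preservesFiniteLimits π
  haveI := pull_additive π
  haveI := pull_preservesInjective π
  let I := injectiveResolution F
  let P := EtCoh.pull π
  let J : InjectiveResolution (P.obj F) :=
    { cocomplex := (P.mapHomologicalComplex (ComplexShape.up ℕ)).obj I.cocomplex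
      ι := RDer.mapAug P I.ι
      quasiIso := by unfold RDer.mapAug; infer_instance }
  let e : (P.mapHomologicalComplex _).obj (((EtDual.secSupp j).mapHomologicalComplex (ComplexShape.up ℕ)).obj I.cocomplex) ≅
      ((EtDual.secSupp j').mapHomologicalComplex (ComplexShape.up ℕ)).obj J.cocomplex :=
    (NatIso.mapHomologicalComplex (pullSecSuppIso j π j' hU) (ComplexShape.up ℕ)).app I.cocomplex
  exact ⟨P.mapIso (I.isoRightDerivedObj (EtDual.secSupp j) p) ≪≫
    (((((EtDual.secSupp j).mapHomologicalComplex (ComplexShape.up ℕ)).obj I.cocomplex).sc p).mapHomologyIso P).symm ≪≫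
    (HomologicalComplex.homologyFunctor _ _ p).mapIso e ≪≫ (J.isoRightDerivedObj (EtDual.secSupp j') p).symm⟩

include hU in
/-- Vanishing of local cohomology sheaves can be tested after a surjective étale morphism. -/
theorem isZero_locCoh_of_pull [Surjective π] (F : EtCoh.Ab X) (p : ℕ)
    (h : IsZero ((EtDual.locCoh j' p).obj ((EtCoh.pull π).obj F))) : IsZero ((EtDual.locCoh j p).obj F) := by
  obtain ⟨e⟩ := pull_locCoh_iso j π j' hU F p
  haveI := pullback_faithful (A := AddCommGrpCat.{u + 1}) π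
  haveI := pull_additive π
  rw [IsZero.iff_id_eq_zero]
  refine (EtCoh.pull π).map_injective ?_
  exact (h.of_iso e).eq_of_src _ _

end Groth.Agent.LocCohLib
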