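import Groth.Agent.LocCohLib.SES
import Groth.Agent.LocCohLib.Restrict

/-!
The sequence `0 → Γ_Y → id → j_* j^* → 0` on injective sheaves.
-/

universe u

open CategoryTheory CategoryTheory.Limits AlgebraicGeometry Opposite

namespace Groth.Agent.LocCohLib

set_option backward.isDefEq.respectTransparency.types false

open Groth.Agent.EtFound

variable {X U : Scheme.{u}} (j : U ⟶ X) [IsOpenImmersion j] [EtCoh.BCCont j]

theorem mono_shriekAdj_counit (G : EtCoh.Ab X) : Mono ((EtMVLib.shriekAdj j).counit.app G) := by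
  obtain ⟨Z, i, _, hij⟩ := exists_complement j
  obtain ⟨w, hS⟩ := recollement_shortExact i j hij G
  haveI : Mono ((EtShriek.extZeroAdj j).counit.app G) := hS.mono_f
  rw [EtMVLib.shriekAdj, Adjunction.ofNatIsoRight_counit]
  simp only [NatTrans.comp_app, Functor.whiskerRight_app]
  infer_instance

/-- The unit `I ⟶ j_* j^* I` is a split epimorphism for injective `I`. -/
noncomputable def splitEpiUnit (I : EtCoh.Ab X) [Injective I] : SplitEpi (EtDual.unitApp j I) :=
  let G := (EtCoh.push j).obj ((EtCoh.pull j).obj I)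
  haveI := mono_shriekAdj_counit j G
  let ψ : G ⟶ I := Injective.factorThru
    (((EtMVLib.shriekAdj j).homEquiv _ _).symm ((EtCoh.pullPushAdj j).counit.app ((EtCoh.pull j).obj I)))
    ((EtMVLib.shriekAdj j).counit.app G)
  { section_ := ψ
    id := by
      have h : (EtCoh.pull j).map ψ = (EtCoh.pullPushAdj j).counit.app ((EtCoh.pull j).obj I) := by
        refine ((EtMVLib.shriekAdj j).homEquiv _ _).symm.injective ?_
        refine Eq.trans ?_ (Injective.comp_factorThru (((EtMVLib.shriekAdj j).homEquiv _ _).symm ((EtCoh.pullPushAdj j).counit.app ((EtCoh.pull j).obj I))) ((EtMVLib.shriekAdj j).counit.app G))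
        rw [Adjunction.homEquiv_counit]
        exact (EtMVLib.shriekAdj j).counit.naturality ψ
      refine ((EtCoh.pullPushAdj j).homEquiv _ _).symm.injective ?_
      rw [Adjunction.homEquiv_counit, Adjunction.homEquiv_counit, Functor.map_comp, Category.assoc, h]
      simp }

/-- The short exact sequence on injectives. -/
noncomputable def openSES : InjSES (EtDual.secSupp j) (𝟭 (EtCoh.Ab X)) (EtCoh.pull j ⋙ EtCoh.push j) where
  α := { app := fun F => kernel.ι (EtDual.unitApp j F), naturality := fun _ _ f => kernel.lift_ι _ _ _ }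
  β := (EtCoh.pullPushAdj j).unit
  zero F := kernel.condition _
  shortExact I hI := by
    haveI : IsSplitEpi (EtDual.unitApp j I) := ⟨⟨splitEpiUnit j I⟩⟩
    exact { exact := ShortComplex.exact_of_f_is_kernel _ (kernelIsKernel _)
            epi_g := inferInstanceAs (Epi (EtDual.unitApp j I)) }

theorem isZero_rightDerived_id (X : EtCoh.Ab X) (q : ℕ) :
    IsZero (((𝟭 _ : EtCoh.Ab _ ⥤ EtCoh.Ab _).rightDerived (q + 1)).obj X) := by
  let P := injectiveResolution X
  refine IsZero.of_iso ?_ (P.isoRightDerivedObj (𝟭 _) (q + 1))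
  change IsZero (P.cocomplex.homology (q + 1))
  rw [← HomologicalComplex.exactAt_iff_isZero_homology]
  exact P.cocomplex_exactAt_succ q

theorem locCoh_succ_iso (F : EtCoh.Ab X) :
    Nonempty (cokernel (EtDual.unitApp j F) ≅ (EtDual.locCoh j 1).obj F) ∧ ∀ p : ℕ, 1 ≤ p →
      Nonempty ((EtCoh.Rpush j p).obj ((EtCoh.pull j).obj F) ≅ (EtDual.locCoh j (p + 1)).obj F) := by
  haveI := pull_preservesFiniteLimits j
  haveI := pull_additive j
  haveI := pull_preservesInjective j
  haveI : PreservesLimitsOfSize.{0, 0} (EtCoh.push j) := (EtCoh.pullPushAdj j).rightAdjoint_preservesLimits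
  haveI : PreservesFiniteLimits (EtCoh.push j) := inferInstance
  haveI : PreservesFiniteLimits (EtCoh.pull j ⋙ EtCoh.push j) := comp_preservesFiniteLimits _ _
  refine ⟨InjSES.nonempty_cokernel_iso (openSES j) F (isZero_rightDerived_id F 0), fun p hp => ?_⟩
  obtain ⟨q, rfl⟩ : ∃ q, p = q + 1 := ⟨p - 1, by omega⟩
  obtain ⟨e⟩ := InjSES.nonempty_iso_shift (openSES j) F (q + 1) (isZero_rightDerived_id F q) (isZero_rightDerived_id F (q + 1))
  obtain ⟨e'⟩ := nonempty_rightDerived_precomp (EtCoh.pull j) (EtCoh.push j) F (q + 1)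
  exact ⟨e'.symm ≪≫ e⟩

end Groth.Agent.LocCohLib
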