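import Groth.Agent.LocCohLib.Edge
import Groth.Agent.EtMVLib.OpenSeq
import Groth.Agent.EtFound.PullStalk
import Mathlib.Algebra.Homology.ShortComplex.ExactFunctor
import Groth.Prelude.Def_EtDepth

/-!
Sections with support preserve injective sheaves; monotonicity in the support.
-/

universe u

open CategoryTheory CategoryTheory.Limits AlgebraicGeometry Opposite

namespace Groth.Agent.LocCohLib

set_option backward.isDefEq.respectTransparency.types false

variable {X U : Scheme.{u}} (j : U ⟶ X) [EtCoh.BCCont j]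

theorem comp_unitApp_eq_zero_iff {G I : EtCoh.Ab X} (ψ : G ⟶ I) :
    ψ ≫ EtDual.unitApp j I = 0 ↔ (EtCoh.pull j).map ψ = 0 := by
  have e : ψ ≫ EtDual.unitApp j I = (EtCoh.pullPushAdj j).homEquiv _ _ ((EtCoh.pull j).map ψ) := by
    rw [Adjunction.homEquiv_unit]
    exact (EtCoh.pullPushAdj j).unit.naturality ψ
  constructor
  · intro h
    refine ((EtCoh.pullPushAdj j).homEquiv _ _).injective ?_
    rw [← e, h, Adjunction.homEquiv_unit, Functor.map_zero, comp_zero]
  · intro h
    rw [e, h, Adjunction.homEquiv_unit, Functor.map_zero, comp_zero]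

theorem counit_comp_eq_zero_iff [IsOpenImmersion j] [AlgebraicGeometry.Etale j] [EtShriek.JCont j]
    {G I : EtCoh.Ab X} (ψ : G ⟶ I) :
    (EtShriek.extZeroAdj j).counit.app G ≫ ψ = 0 ↔ (EtCoh.pull j).map ψ = 0 := by
  have h0 : (EtShriek.extZeroAdj j).counit.app G ≫ ψ = 0 ↔ (EtShriek.restrAlong j).map ψ = 0 := by
    have e : ((EtShriek.extZeroAdj j).homEquiv _ _) ((EtShriek.extZeroAdj j).counit.app G ≫ ψ) =
        (EtShriek.restrAlong j).map ψ := by
      rw [Adjunction.homEquiv_unit, Functor.map_comp, ← Category.assoc, Adjunction.right_triangle_components,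
        Category.id_comp]
    have e0 : ((EtShriek.extZeroAdj j).homEquiv _ _) (0 : (EtShriek.extZero j).obj ((EtShriek.restrAlong j).obj G) ⟶ I) = 0 := by
      rw [Adjunction.homEquiv_unit, Functor.map_zero, comp_zero]
    constructor
    · intro h
      rw [← e]
      exact (congrArg _ h).trans e0
    · intro h
      exact ((EtShriek.extZeroAdj j).homEquiv _ _).injective (e.trans (h.trans e0.symm))
  let θ := EtMVLib.restrIsoPull j
  refine h0.trans ⟨fun h => ?_, fun h => ?_⟩
  · rw [← cancel_epi (θ.hom.app G), ← θ.hom.naturality, h, zero_comp, comp_zero]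
  · rw [← cancel_mono (θ.hom.app I), θ.hom.naturality, h, zero_comp, comp_zero]

theorem exists_complement [IsOpenImmersion j] : ∃ (Z : Scheme.{u}) (i : Z ⟶ X), IsClosedImmersion i ∧
    Set.range j.base = (Set.range i.base)ᶜ := by
  let S : TopologicalSpace.Closeds X := ⟨(Set.range j.base)ᶜ, j.isOpenEmbedding.isOpen_range.isClosed_compl⟩
  refine ⟨(Scheme.IdealSheafData.vanishingIdeal S).subscheme, (Scheme.IdealSheafData.vanishingIdeal S).subschemeι,
    inferInstance, ?_⟩
  rw [Scheme.IdealSheafData.range_subschemeι, Scheme.IdealSheafData.coe_support_vanishingIdeal]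
  exact (compl_compl _).symm

theorem secSupp_preservesInjective [IsOpenImmersion j] : (EtDual.secSupp j).PreservesInjectiveObjects := by
  refine ⟨fun {I} hI => ⟨fun {G G'} φ m hm => ?_⟩⟩
  obtain ⟨Z, i, hi, hij⟩ := exists_complement j
  let ψ : G ⟶ I := φ ≫ kernel.ι (EtDual.unitApp j I)
  have hψ : (EtCoh.pull j).map ψ = 0 := (comp_unitApp_eq_zero_iff j ψ).1 (by simp [ψ])
  obtain ⟨w, hS⟩ := EtFound.recollement_shortExact i j hij G
  obtain ⟨w', hS'⟩ := EtFound.recollement_shortExact i j hij G'
  obtain ⟨χ, hχ⟩ := CokernelCofork.IsColimit.desc' hS.gIsCokernel ψ ((counit_comp_eq_zero_iff j ψ).2 hψ)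
  replace hχ : (EtCoh.pullPushAdj i).unit.app G ≫ χ = ψ := hχ
  haveI := EtFound.pull_preservesFiniteLimits i
  haveI : Mono ((EtCoh.pull i).map m) := inferInstance
  haveI : (EtCoh.push i).PreservesMonomorphisms :=
    Functor.preservesMonomorphisms_of_adjunction (EtCoh.pullPushAdj i)
  let mm := (EtCoh.push i).map ((EtCoh.pull i).map m)
  haveI : Mono mm := inferInstance
  let χ' := Injective.factorThru χ mm
  have h1 : m ≫ (EtCoh.pullPushAdj i).unit.app G' ≫ χ' = ψ := by
    rw [← Category.assoc]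
    refine (congrArg (· ≫ χ') ((EtCoh.pullPushAdj i).unit.naturality m)).trans ?_
    refine (Category.assoc _ _ _).trans ?_
    exact (congrArg (_ ≫ ·) (Injective.comp_factorThru χ mm)).trans hχ
  have h2 : ((EtCoh.pullPushAdj i).unit.app G' ≫ χ') ≫ EtDual.unitApp j I = 0 :=
    (comp_unitApp_eq_zero_iff j _).2 ((counit_comp_eq_zero_iff j _).1 (by
      exact (Category.assoc _ _ _).symm.trans ((congrArg (· ≫ χ') w').trans zero_comp)))
  refine ⟨kernel.lift _ _ h2, ?_⟩
  rw [← cancel_mono (kernel.ι (EtDual.unitApp j I)), Category.assoc, kernel.lift_ι]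
  exact h1

variable {V : Scheme.{u}} (k : V ⟶ X) [EtCoh.BCCont k]

/-- Sections supported off the larger open among those supported off the smaller one. -/
noncomputable def secSuppCompIso (h : ∀ {G I : EtCoh.Ab X} (ψ : G ⟶ I),
    (EtCoh.pull k).map ψ = 0 → (EtCoh.pull j).map ψ = 0) :
    EtDual.secSupp j ⋙ EtDual.secSupp k ≅ EtDual.secSupp k :=
  NatIso.ofComponents (fun F =>
    { hom := (EtDual.secSupp k).map (kernel.ι (EtDual.unitApp j F))
      inv := kernel.lift _ (kernel.lift (EtDual.unitApp j F) (kernel.ι (EtDual.unitApp k F))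
          ((comp_unitApp_eq_zero_iff j _).2 (h _ ((comp_unitApp_eq_zero_iff k _).1 (kernel.condition _))))) (by
        rw [comp_unitApp_eq_zero_iff]
        have h0 : (EtCoh.pull k).map (kernel.lift (EtDual.unitApp j F) (kernel.ι (EtDual.unitApp k F))
          ((comp_unitApp_eq_zero_iff j _).2 (h _ ((comp_unitApp_eq_zero_iff k _).1 (kernel.condition _))))) ≫
            (EtCoh.pull k).map (kernel.ι (EtDual.unitApp j F)) = 0 := by
          rw [← Functor.map_comp, kernel.lift_ι]
          exact (comp_unitApp_eq_zero_iff k _).1 (kernel.condition _)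
        haveI := EtFound.pull_preservesFiniteLimits k
        exact zero_of_comp_mono _ h0)
      hom_inv_id := by
        rw [← cancel_mono (kernel.ι _), ← cancel_mono (kernel.ι _)]
        simp [Functor.comp_obj]
      inv_hom_id := by
        rw [← cancel_mono (kernel.ι _)]
        simp })
    (fun {F F'} f => by
      rw [← cancel_mono (kernel.ι _)]
      simp)

theorem pull_map_eq_zero_of_factor [IsOpenImmersion k] (hUV : Set.range j.base ⊆ Set.range k.base)
    {G I : EtCoh.Ab X} (ψ : G ⟶ I) (h : (EtCoh.pull k).map ψ = 0) : (EtCoh.pull j).map ψ = 0 := by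
  let θ := EtMVLib.θ k j (IsOpenImmersion.lift k j hUV) (IsOpenImmersion.lift_fac _ _ _)
  rw [← cancel_epi (θ.hom.app G), ← θ.hom.naturality, Functor.comp_map, h, Functor.map_zero, zero_comp, comp_zero]

theorem secSupp_preservesFiniteLimits : PreservesFiniteLimits (EtDual.secSupp k) := by
  rw [Functor.preservesFiniteLimits_iff_forall_exact_map_and_mono]
  intro S hS
  haveI := hS.mono_f
  haveI hm : Mono ((EtDual.secSupp k).map S.f) := by
    refine @mono_of_mono _ _ _ _ _ _ (kernel.ι (EtDual.unitApp k S.X₂)) ?_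
    have : (EtDual.secSupp k).map S.f ≫ kernel.ι (EtDual.unitApp k S.X₂) = kernel.ι (EtDual.unitApp k S.X₁) ≫ S.f :=
      kernel.lift_ι _ _ _
    rw [this]
    infer_instance
  haveI : Mono (S.map (EtDual.secSupp k)).f := hm
  refine ⟨ShortComplex.exact_of_f_is_kernel _ (KernelFork.IsLimit.ofι' _ _ fun {T} g hg => ?_), hm⟩
  change g ≫ (EtDual.secSupp k).map S.g = 0 at hg
  let g' : T ⟶ S.X₂ := g ≫ kernel.ι (EtDual.unitApp k S.X₂)
  have hn : (EtDual.secSupp k).map S.g ≫ kernel.ι (EtDual.unitApp k S.X₃) =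
      kernel.ι (EtDual.unitApp k S.X₂) ≫ S.g := kernel.lift_ι _ _ _
  have hg' : g' ≫ S.g = 0 :=
    (Category.assoc _ _ _).trans ((congrArg (g ≫ ·) hn.symm).trans
      ((Category.assoc _ _ _).symm.trans ((congrArg (· ≫ _) hg).trans zero_comp)))
  obtain ⟨a, ha⟩ := KernelFork.IsLimit.lift' hS.fIsKernel g' hg'
  replace ha : a ≫ S.f = g' := ha
  haveI := EtFound.pull_preservesFiniteLimits k
  have ha0 : a ≫ EtDual.unitApp k S.X₁ = 0 := by
    refine (comp_unitApp_eq_zero_iff k a).2 (zero_of_comp_mono ((EtCoh.pull k).map S.f) ?_)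
    rw [← Functor.map_comp, ha]
    exact (comp_unitApp_eq_zero_iff k g').1
      ((Category.assoc _ _ _).trans ((congrArg (g ≫ ·) (kernel.condition _)).trans comp_zero))
  refine ⟨kernel.lift _ a ha0, ?_⟩
  change kernel.lift _ a ha0 ≫ (EtDual.secSupp k).map S.f = g
  rw [← cancel_mono (kernel.ι (EtDual.unitApp k S.X₂))]
  erw [Category.assoc, kernel.lift_ι, kernel.lift_ι_assoc]
  exact ha

theorem depthGE_mono [IsOpenImmersion j] [IsOpenImmersion k] (hUV : Set.range j.base ⊆ Set.range k.base)
    (F : EtCoh.Ab X) (n : ℕ) (h : EtDepth.DepthGE j F n) : EtDepth.DepthGE k F n := by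
  intro p hp
  haveI := secSupp_preservesInjective j
  haveI := secSupp_preservesFiniteLimits k
  have := isZero_rightDerived_comp (EtDual.secSupp k) (EtDual.secSupp j) F n h p hp
  exact this.of_iso ((RDer.rightDerivedIso (secSuppCompIso j k fun ψ => pull_map_eq_zero_of_factor j k hUV ψ) p).app F).symm

end Groth.Agent.LocCohLib
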