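import Groth.Prelude.Def_RDer
import Mathlib.Algebra.Homology.HomologySequence
import Mathlib.Algebra.Homology.HomologicalComplexAbelian

/-!
Long exact sequence of right derived functors for functors forming a short exact sequence on injectives.
-/

universe v₁ v₂ v₃ u₁ u₂ u₃

open CategoryTheory CategoryTheory.Limits HomologicalComplex

namespace Groth.Agent.LocCohLib

variable {A : Type u₁} [Category.{v₁} A] [Abelian A] [HasInjectiveResolutions A]
  {B : Type u₂} [Category.{v₂} B] [Abelian B]

/-- A short exact sequence of functors on injective objects. -/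
structure InjSES (F G H : A ⥤ B) where
  α : F ⟶ G
  β : G ⟶ H
  zero : ∀ X, α.app X ≫ β.app X = 0
  shortExact : ∀ I : A, Injective I → (ShortComplex.mk (α.app I) (β.app I) (zero I)).ShortExact

variable {F G H : A ⥤ B} [F.Additive] [G.Additive] [H.Additive] (S : InjSES F G H)

/-- The short exact sequence of complexes on an injective resolution. -/
noncomputable def InjSES.cplx {X : A} (P : InjectiveResolution X) : ShortComplex (CochainComplex B ℕ) :=
  ShortComplex.mk ((NatTrans.mapHomologicalComplex S.α _).app P.cocomplex)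
    ((NatTrans.mapHomologicalComplex S.β _).app P.cocomplex)
    (HomologicalComplex.hom_ext _ _ fun n => S.zero (P.cocomplex.X n))

omit [HasInjectiveResolutions A] in
theorem InjSES.cplx_shortExact {X : A} (P : InjectiveResolution X) : (S.cplx P).ShortExact :=
  HomologicalComplex.shortExact_of_degreewise_shortExact _ fun n => S.shortExact _ (P.injective n)

include S in
theorem InjSES.nonempty_iso_right (X : A) (q : ℕ) (h₀ : IsZero ((F.rightDerived q).obj X))
    (h₁ : IsZero ((F.rightDerived (q + 1)).obj X)) :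
    Nonempty ((G.rightDerived q).obj X ≅ (H.rightDerived q).obj X) := by
  let P := injectiveResolution X
  have hS := InjSES.cplx_shortExact S P
  have hz₀ : IsZero ((S.cplx P).X₁.homology q) := h₀.of_iso (P.isoRightDerivedObj F q).symm
  have hz₁ : IsZero ((S.cplx P).X₁.homology (q + 1)) := h₁.of_iso (P.isoRightDerivedObj F (q + 1)).symm
  haveI : Mono (homologyMap (S.cplx P).g q) :=
    (hS.homology_exact₂ q).mono_g (hz₀.eq_of_src _ _)
  haveI : Epi (homologyMap (S.cplx P).g q) :=
    (hS.homology_exact₃ q (q + 1) (by simp)).epi_f (hz₁.eq_of_tgt _ _)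
  have hi := isIso_of_mono_of_epi (homologyMap (S.cplx P).g q)
  exact ⟨P.isoRightDerivedObj G q ≪≫ (@asIso _ _ _ _ (homologyMap (S.cplx P).g q) hi) ≪≫ (P.isoRightDerivedObj H q).symm⟩

include S in
theorem InjSES.nonempty_iso_shift (X : A) (q : ℕ) (h₀ : IsZero ((G.rightDerived q).obj X))
    (h₁ : IsZero ((G.rightDerived (q + 1)).obj X)) :
    Nonempty ((H.rightDerived q).obj X ≅ (F.rightDerived (q + 1)).obj X) := by
  let P := injectiveResolution X
  exact ⟨P.isoRightDerivedObj H q ≪≫ (InjSES.cplx_shortExact S P).δIso q (q + 1) (by simp)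
    (h₀.of_iso (P.isoRightDerivedObj G q).symm) (h₁.of_iso (P.isoRightDerivedObj G (q + 1)).symm) ≪≫
    (P.isoRightDerivedObj F (q + 1)).symm⟩

include S in
theorem InjSES.nonempty_cokernel_iso [PreservesFiniteLimits G] [PreservesFiniteLimits H] (X : A)
    (h₁ : IsZero ((G.rightDerived 1).obj X)) :
    Nonempty (cokernel (S.β.app X) ≅ (F.rightDerived 1).obj X) := by
  let P := injectiveResolution X
  have hS := InjSES.cplx_shortExact S P
  have hz : IsZero ((S.cplx P).X₂.homology 1) := h₁.of_iso (P.isoRightDerivedObj G 1).symm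
  haveI : Epi (hS.δ 0 1 rfl) := (hS.homology_exact₁ 0 1 rfl).epi_f (hz.eq_of_tgt _ _)
  have hc := (hS.homology_exact₃ 0 1 rfl).gIsCokernel
  let eG : G.obj X ≅ (S.cplx P).X₂.homology 0 := asIso (P.toRightDerivedZero' G) ≪≫
    CochainComplex.isoHomologyπ₀ ((G.mapHomologicalComplex (ComplexShape.up ℕ)).obj P.cocomplex)
  let eH : H.obj X ≅ (S.cplx P).X₃.homology 0 := asIso (P.toRightDerivedZero' H) ≪≫
    CochainComplex.isoHomologyπ₀ ((H.mapHomologicalComplex (ComplexShape.up ℕ)).obj P.cocomplex)
  have w : S.β.app X ≫ eH.hom = eG.hom ≫ homologyMap (S.cplx P).g 0 := by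
    simp only [eG, eH, Iso.trans_hom, asIso_hom, Category.assoc, RDer.isoHomologyπ₀_hom_eq]
    erw [homologyπ_naturality]
    rw [← RDer.toRightDerivedZero'_cyclesMap_assoc S.β P]
    rfl
  exact ⟨cokernel.mapIso _ _ eG eH w ≪≫ (cokernelIsCokernel _).coconePointUniqueUpToIso hc ≪≫
    (P.isoRightDerivedObj F 1).symm⟩

omit [F.Additive] [G.Additive] [H.Additive] in
/-- Derived functors of a composite with an exact functor preserving injectives. -/
theorem nonempty_rightDerived_precomp {A' : Type u₃} [Category.{v₃} A'] [Abelian A'] [HasInjectiveResolutions A']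
    (E : A' ⥤ A) [E.Additive] [PreservesFiniteLimits E] [PreservesFiniteColimits E] [E.PreservesInjectiveObjects]
    (Ψ : A ⥤ B) [Ψ.Additive] (X : A') (q : ℕ) :
    Nonempty (((E ⋙ Ψ).rightDerived q).obj X ≅ (Ψ.rightDerived q).obj (E.obj X)) := by
  let I := injectiveResolution X
  let J : InjectiveResolution (E.obj X) :=
    { cocomplex := (E.mapHomologicalComplex (ComplexShape.up ℕ)).obj I.cocomplex
      ι := RDer.mapAug E I.ι
      quasiIso := by unfold RDer.mapAug; infer_instance }
  exact ⟨I.isoRightDerivedObj (E ⋙ Ψ) q ≪≫ (J.isoRightDerivedObj Ψ q).symm⟩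

end Groth.Agent.LocCohLib
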