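import Groth.Agent.EtFound.Germ
import Groth.Agent.EtFound.Basic
import Groth.Prelude.Def_EtShriek2
import Mathlib.AlgebraicGeometry.Morphisms.FormallyUnramified
import Mathlib.AlgebraicGeometry.ResidueField

/-!
Excision for sections with supports: sections supported in a closed set are the same over an étale
neighbourhood of the closed set.
-/

universe u

open CategoryTheory CategoryTheory.Limits AlgebraicGeometry Opposite

namespace Groth.Agent.LocCohLib.ExciseSect

set_option backward.isDefEq.respectTransparency.types false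

open Groth.Agent.EtFound

/-- Two field-valued points with the same image and the same composite with `f` are equal, when `f` has
trivial residue field extension at that point. -/
theorem point_ext {A B : Scheme.{u}} (f : A ⟶ B) {K : Type u} [Field K] (p q : Spec (CommRingCat.of K) ⟶ A)
    (x : A) (hp : p.base (IsLocalRing.closedPoint K) = x) (hq : q.base (IsLocalRing.closedPoint K) = x)
    (hres : Function.Surjective (f.residueFieldMap x)) (h : p ≫ f = q ≫ f) : p = q := by
  obtain ⟨⟨y, ψ⟩, rfl⟩ := (Scheme.SpecToEquivOfField K A).symm.surjective q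
  obtain ⟨⟨z, φ⟩, rfl⟩ := (Scheme.SpecToEquivOfField K A).symm.surjective p
  have hz : z = x := by
    refine Eq.trans ?_ hp
    exact ((Scheme.Hom.comp_apply (Spec.map φ) (A.fromSpecResidueField z) _).trans
      (Scheme.fromSpecResidueField_apply z _)).symm
  have hy : y = x := by
    refine Eq.trans ?_ hq
    exact ((Scheme.Hom.comp_apply (Spec.map ψ) (A.fromSpecResidueField y) _).trans
      (Scheme.fromSpecResidueField_apply y _)).symm
  subst z y
  haveI : Epi (f.residueFieldMap x) := ConcreteCategory.epi_of_surjective _ hres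
  change (Spec.map φ ≫ A.fromSpecResidueField x) ≫ f = (Spec.map ψ ≫ A.fromSpecResidueField x) ≫ f at h
  rw [Category.assoc, Category.assoc, ← Scheme.Hom.SpecMap_residueFieldMap_fromSpecResidueField,
    ← Category.assoc, ← Category.assoc, cancel_mono, ← Spec.map_comp, ← Spec.map_comp,
    Spec.map_inj, cancel_epi] at h
  rw [h]

/-- Two maps agree near a point where their values agree, over an unramified map with trivial residue field
extension there. -/
theorem exists_opens_eq {A B W : Scheme.{u}} (f : A ⟶ B) [FormallyUnramified f] [LocallyOfFiniteType f]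
    (a b : W ⟶ A) (hab : a ≫ f = b ≫ f) (w : W) (heq : a.base w = b.base w)
    (hres : Function.Surjective (f.residueFieldMap (a.base w))) :
    ∃ O : W.Opens, w ∈ O ∧ O.ι ≫ a = O.ι ≫ b := by
  let c : W ⟶ pullback f f := pullback.lift a b hab
  let O : W.Opens := c ⁻¹ᵁ (pullback.diagonal f).opensRange
  let pt := W.fromSpecResidueField w
  have hpt : pt ≫ a = pt ≫ b := by
    refine point_ext f _ _ (a.base w) ?_ ?_ hres
      ((Category.assoc _ _ _).trans ((congrArg (pt ≫ ·) hab).trans (Category.assoc _ _ _).symm))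
    · exact (Scheme.Hom.comp_apply _ _ _).trans (congrArg a.base (Scheme.fromSpecResidueField_apply w _))
    · exact ((Scheme.Hom.comp_apply _ _ _).trans
        (congrArg b.base (Scheme.fromSpecResidueField_apply w _))).trans heq.symm
  have hc : pt ≫ c = (pt ≫ a) ≫ pullback.diagonal f := by
    refine pullback.hom_ext ?_ ?_
    · rw [Category.assoc, Category.assoc, pullback.diagonal_fst, Category.comp_id, pullback.lift_fst]
    · rw [Category.assoc, Category.assoc, pullback.diagonal_snd, Category.comp_id, pullback.lift_snd]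
      exact hpt.symm
  refine ⟨O, ⟨(pt ≫ a).base (IsLocalRing.closedPoint _), ?_⟩, ?_⟩
  · refine (Scheme.Hom.comp_apply _ _ _).symm.trans ?_
    rw [← hc]
    exact (Scheme.Hom.comp_apply _ _ _).trans (congrArg c.base (Scheme.fromSpecResidueField_apply w _))
  · have hr : Set.range (O.ι ≫ c).base ⊆ Set.range (pullback.diagonal f).base := by
      rintro _ ⟨z, rfl⟩
      rw [Scheme.Hom.comp_apply]
      exact z.2
    have hl := IsOpenImmersion.lift_fac (pullback.diagonal f) (O.ι ≫ c) hr
    have h1 := congrArg (· ≫ pullback.fst f f) hl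
    have h2 := congrArg (· ≫ pullback.snd f f) hl
    simp only [Category.assoc, pullback.diagonal_fst, Category.comp_id, c, pullback.lift_fst] at h1
    simp only [Category.assoc, pullback.diagonal_snd, Category.comp_id, c, pullback.lift_snd] at h2
    exact h1.symm.trans h2

variable {X : Scheme.{u}}

theorem comp_base {A B C : X.Etale} (a : A ⟶ B) (b : B ⟶ C) (w : A.left) :
    (a ≫ b).left.base w = b.left.base (a.left.base w) := by
  rw [show (a ≫ b).left = a.left ≫ b.left from rfl, Scheme.Hom.comp_apply]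

/-- The open subobject of an object of the small étale site. -/
noncomputable def opn (U : X.Etale) (O : U.left.Opens) : X.Etale :=
  haveI : AlgebraicGeometry.Etale U.hom := U.prop
  Scheme.Etale.mk (O.ι ≫ U.hom)

/-- Its inclusion. -/
noncomputable def opnι (U : X.Etale) (O : U.left.Opens) : opn U O ⟶ U :=
  MorphismProperty.Over.homMk O.ι rfl trivial

/-- Two maps to `U'` over `U` agree near a point where their values agree, if `U' → U` has trivial residue
field extension there. -/
theorem exists_open_eq {U U' W : X.Etale} (φ : U' ⟶ U) (a b : W ⟶ U') (hab : a ≫ φ = b ≫ φ) (w : W.left)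
    (heq : a.left.base w = b.left.base w) (hres : Function.Surjective (φ.left.residueFieldMap (a.left.base w))) :
    ∃ (W' : X.Etale) (g : W' ⟶ W), (∃ w', g.left.base w' = w) ∧ g ≫ a = g ≫ b := by
  haveI := etale_left φ
  obtain ⟨O, hw, h⟩ := exists_opens_eq φ.left a.left b.left (congrArg (fun m : W ⟶ U => m.left) hab) w heq hres
  exact ⟨opn W O, opnι W O, ⟨⟨w, hw⟩, rfl⟩, MorphismProperty.Over.Hom.ext h⟩

/-- A common refinement of two neighbourhoods. -/
theorem exists_refine {W W₁ W₂ : X.Etale} (g₁ : W₁ ⟶ W) (g₂ : W₂ ⟶ W) (w₁ : W₁.left) (w₂ : W₂.left)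
    (h : g₁.left.base w₁ = g₂.left.base w₂) :
    ∃ (W₃ : X.Etale) (h₁ : W₃ ⟶ W₁) (h₂ : W₃ ⟶ W₂) (w₃ : W₃.left),
      h₁ ≫ g₁ = h₂ ≫ g₂ ∧ h₁.left.base w₃ = w₁ ∧ h₂.left.base w₃ = w₂ := by
  haveI := etale_left g₁
  haveI := etale_left g₂
  haveI : AlgebraicGeometry.Etale W₁.hom := W₁.prop
  obtain ⟨z, hz₁, hz₂⟩ := Scheme.Pullback.exists_preimage_pullback w₁ w₂ h
  have he : pullback.snd g₁.left g₂.left ≫ W₂.hom = pullback.fst g₁.left g₂.left ≫ W₁.hom := by
    rw [← MorphismProperty.Over.w g₁, ← MorphismProperty.Over.w g₂, ← Category.assoc, ← Category.assoc,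
      pullback.condition]
  refine ⟨Scheme.Etale.mk (pullback.fst g₁.left g₂.left ≫ W₁.hom),
    MorphismProperty.Over.homMk (pullback.fst g₁.left g₂.left) rfl trivial,
    MorphismProperty.Over.homMk (pullback.snd g₁.left g₂.left) he trivial, z, ?_, hz₁, hz₂⟩
  exact MorphismProperty.Over.Hom.ext pullback.condition

variable (F : EtCoh.Ab X)

theorem map_map {A B C : X.Etale} (a : A ⟶ B) (b : B ⟶ C) (x : EtCoh.sect F C) :
    F.obj.map (a ≫ b).op x = F.obj.map a.op (F.obj.map b.op x) :=
  ConcreteCategory.congr_hom (F.obj.map_comp b.op a.op) x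

/-- Locally equal sections are equal. -/
theorem eq_of_locally {U : X.Etale} (s t : EtCoh.sect F U)
    (h : ∀ x : U.left, ∃ (W : X.Etale) (g : W ⟶ U), (∃ w, g.left.base w = x) ∧
      F.obj.map g.op s = F.obj.map g.op t) : s = t := by
  have hF := (isSheaf_iff_isSheaf_of_type _ _).1
    ((sheafCompose X.smallEtaleTopology (CategoryTheory.forget AddCommGrpCat.{u+1})).obj F).property
  let S : Sieve U :=
    { arrows := fun W g => F.obj.map g.op s = F.obj.map g.op t
      downward_closed := fun {Y Z} f hf g => by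
        show F.obj.map (g ≫ f).op s = F.obj.map (g ≫ f).op t
        rw [map_map, map_map, hf] }
  have hS : S ∈ X.smallEtaleTopology U := (mem_topology_iff S).2 fun x => by
    obtain ⟨W, g, ⟨w, hw⟩, he⟩ := h x
    exact ⟨W, g, w, he, hw⟩
  exact (hF S hS).isSeparatedFor.ext fun Y f hf => hf

/-- Outside the support, a section vanishes on a neighbourhood. -/
theorem exists_kill {U : X.Etale} (s : EtCoh.sect F U) (x : U.left) (hx : x ∉ EtShriek.sectSupp F U s) :
    ∃ (W : X.Etale) (g : W ⟶ U), (∃ w, g.left.base w = x) ∧ F.obj.map g.op s = 0 := by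
  simp only [EtShriek.sectSupp, Set.mem_setOf_eq, not_forall] at hx
  obtain ⟨W, g, hw, h0⟩ := hx
  exact ⟨W, g, hw, not_not.1 h0⟩

/-- A section vanishing at the image of a point vanishes near the point. -/
theorem exists_kill_pull {U V : X.Etale} (a : V ⟶ U) (s : EtCoh.sect F U) (v : V.left)
    (h : a.left.base v ∉ EtShriek.sectSupp F U s) :
    ∃ (W : X.Etale) (g : W ⟶ V), (∃ w, g.left.base w = v) ∧ F.obj.map (g ≫ a).op s = 0 := by
  obtain ⟨W, g, ⟨w, hw⟩, h0⟩ := exists_kill F s _ h
  obtain ⟨W₃, h₁, h₂, w₃, he, -, h₂'⟩ := exists_refine g a w v hw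
  refine ⟨W₃, h₂, ⟨w₃, h₂'⟩, ?_⟩
  rw [← he, map_map, h0, map_zero]

theorem sectSupp_map {U V : X.Etale} (a : V ⟶ U) (s : EtCoh.sect F U) :
    EtShriek.sectSupp F V (F.obj.map a.op s) ⊆ a.left.base ⁻¹' EtShriek.sectSupp F U s := by
  intro v hv
  by_contra hc
  obtain ⟨W, g, hw, h0⟩ := exists_kill_pull F a s v hc
  exact hv W g hw ((map_map F g a s).symm.trans h0)

/-- Excision for sections with support. -/
theorem bijOn_restrict {U U' : X.Etale} (φ : U' ⟶ U) (Z : Set U.left) (hZ : IsClosed Z)
    (hbij : Set.BijOn φ.left.base (φ.left.base ⁻¹' Z) Z)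
    (hres : ∀ x ∈ φ.left.base ⁻¹' Z, Function.Surjective (φ.left.residueFieldMap x)) :
    Set.BijOn (F.obj.map φ.op) {s | EtShriek.sectSupp F U s ⊆ Z}
      {s' | EtShriek.sectSupp F U' s' ⊆ φ.left.base ⁻¹' Z} := by
  refine ⟨fun s hs => (sectSupp_map F φ s).trans (Set.preimage_mono hs), ?_, ?_⟩
  · intro s hs t ht hst
    refine eq_of_locally F s t fun x => ?_
    by_cases hx : x ∈ Z
    · obtain ⟨x', -, rfl⟩ := hbij.surjOn hx
      exact ⟨U', φ, ⟨x', rfl⟩, hst⟩
    · obtain ⟨W₁, g₁, ⟨w₁, hw₁⟩, h₁⟩ := exists_kill F s x fun h => hx (hs h)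
      obtain ⟨W₂, g₂, ⟨w₂, hw₂⟩, h₂⟩ := exists_kill F t x fun h => hx (ht h)
      obtain ⟨W₃, a, b, w₃, he, ha, -⟩ := exists_refine g₁ g₂ w₁ w₂ (hw₁.trans hw₂.symm)
      refine ⟨W₃, a ≫ g₁, ⟨w₃, ?_⟩, ?_⟩
      · rw [comp_base, ha, hw₁]
      · have hs0 : F.obj.map (a ≫ g₁).op s = 0 := by rw [map_map, h₁, map_zero]
        have ht0 : F.obj.map (a ≫ g₁).op t = 0 := by rw [he, map_map, h₂, map_zero]
        rw [hs0, ht0]
  · intro s' hs'
    let Zc : U.left.Opens := ⟨Zᶜ, hZ.isOpen_compl⟩
    let Vobj : Bool → X.Etale := fun b => cond b U' (opn U Zc)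
    let arr : ∀ b, Vobj b ⟶ U := fun b => match b with
      | true => φ
      | false => opnι U Zc
    let x : ∀ b, EtCoh.sect F (Vobj b) := fun b => match b with
      | true => s'
      | false => 0
    have hout : ∀ {W : X.Etale} (a : W ⟶ U') (w : W.left), φ.left.base (a.left.base w) ∉ Z →
        ∃ (W' : X.Etale) (g : W' ⟶ W), (∃ w', g.left.base w' = w) ∧ F.obj.map (g ≫ a).op s' = 0 :=
      fun {W} a w h => exists_kill_pull F a s' w fun h' => h (hs' h')
    have hin : ∀ {W : X.Etale} (b : W ⟶ opn U Zc) (w : W.left), (b ≫ opnι U Zc).left.base w ∉ Z :=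
      fun {W} b w => by rw [comp_base]; exact (b.left.base w : (Zc : Scheme.{u})).2
    have hmix : ∀ {W : X.Etale} (a : W ⟶ U') (b : W ⟶ opn U Zc), a ≫ φ = b ≫ opnι U Zc →
        F.obj.map a.op s' = 0 := fun {W} a b hab => by
      refine eq_of_locally F _ _ fun w => ?_
      obtain ⟨W', g, hw', h0⟩ := hout a w (by rw [← comp_base, hab]; exact hin b w)
      exact ⟨W', g, hw', by rw [← map_map, h0, map_zero]⟩
    have hF := (isSheaf_iff_isSheaf_of_type _ _).1
      ((sheafCompose X.smallEtaleTopology (CategoryTheory.forget AddCommGrpCat.{u+1})).obj F).property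
    have hcov : Sieve.generate (Presieve.ofArrows Vobj arr) ∈ X.smallEtaleTopology U :=
      (mem_topology_iff _).2 fun y => by
        by_cases hy : y ∈ Z
        · obtain ⟨x', -, rfl⟩ := hbij.surjOn hy
          exact ⟨U', φ, x', ⟨_, 𝟙 _, _, Presieve.ofArrows.mk true, Category.id_comp _⟩, rfl⟩
        · exact ⟨opn U Zc, opnι U Zc, ⟨y, hy⟩, ⟨_, 𝟙 _, _, Presieve.ofArrows.mk false, Category.id_comp _⟩, rfl⟩
    have hfor := (Presieve.isSheafFor_iff_generate _).2 (hF _ hcov)
    obtain ⟨s, hs, -⟩ := (Presieve.isSheafFor_arrows_iff _ _).1 hfor x (by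
      intro i k W a b hab
      match i, k with
      | false, false =>
        show F.obj.map a.op (0 : EtCoh.sect F (opn U Zc)) = F.obj.map b.op (0 : EtCoh.sect F (opn U Zc))
        rw [map_zero, map_zero]
      | true, false =>
        show F.obj.map a.op s' = F.obj.map b.op (0 : EtCoh.sect F (opn U Zc))
        rw [map_zero, hmix a b hab]
      | false, true =>
        show F.obj.map a.op (0 : EtCoh.sect F (opn U Zc)) = F.obj.map b.op s'
        rw [map_zero, hmix b a hab.symm]
      | true, true =>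
        show F.obj.map a.op s' = F.obj.map b.op s'
        refine eq_of_locally F _ _ fun w => ?_
        by_cases hw : φ.left.base (a.left.base w) ∈ Z
        · have hb : φ.left.base (b.left.base w) = φ.left.base (a.left.base w) := by
            rw [← comp_base, ← comp_base]
            exact congrArg (fun m : W ⟶ U => m.left.base w) hab.symm
          have heq : a.left.base w = b.left.base w :=
            hbij.injOn hw (show φ.left.base (b.left.base w) ∈ Z by rw [hb]; exact hw) hb.symm
          obtain ⟨W', g, hw', hg⟩ := exists_open_eq φ a b hab w heq (hres _ hw)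
          refine ⟨W', g, hw', ?_⟩
          exact (map_map F g a s').symm.trans
            ((congrArg (fun m : W' ⟶ U' => F.obj.map m.op s') hg).trans (map_map F g b s'))
        · have hw2 : φ.left.base (b.left.base w) ∉ Z := by
            rw [← comp_base, show a ≫ φ = b ≫ φ from hab, comp_base] at *
            exact hw
          obtain ⟨W₁, g₁, ⟨w₁, hw₁⟩, h₁⟩ := hout a w hw
          obtain ⟨W₂, g₂, ⟨w₂, hw₂'⟩, h₂⟩ := hout b w hw2
          obtain ⟨W₃, p, q, w₃, he, hp, -⟩ := exists_refine g₁ g₂ w₁ w₂ (hw₁.trans hw₂'.symm)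
          refine ⟨W₃, p ≫ g₁, ⟨w₃, by rw [comp_base, hp, hw₁]⟩, ?_⟩
          have ha0 : F.obj.map (p ≫ g₁).op (F.obj.map a.op s') = 0 := by
            rw [← map_map, Category.assoc, map_map, h₁, map_zero]
          have hb0 : F.obj.map (p ≫ g₁).op (F.obj.map b.op s') = 0 := by
            rw [← map_map, he, Category.assoc, map_map, h₂, map_zero]
          exact ha0.trans hb0.symm)
    refine ⟨s, fun y hy => ?_, hs true⟩
    by_contra hyZ
    exact hy (opn U Zc) (opnι U Zc) ⟨⟨y, hyZ⟩, rfl⟩ (hs false)

end Groth.Agent.LocCohLib.ExciseSect
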