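import Groth.Agent.LocCohLib.Excision
import Groth.Agent.LocCohLib.ExciseSect

/-!
Étale excision for local cohomology groups.
-/

universe u

open CategoryTheory CategoryTheory.Limits AlgebraicGeometry Opposite

namespace Groth.Agent.LocCohLib

set_option backward.isDefEq.respectTransparency.types false

open Groth.Agent.EtFound

attribute [local instance] gsec_additive

variable {X U : Scheme.{u}} (j : U ⟶ X) [IsOpenImmersion j] [EtCoh.BCCont j]

/-- Every section of `Γ_Y F` is supported off `U`. -/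
theorem sectSupp_secSupp (F : EtCoh.Ab X) (V : X.Etale) (s : EtCoh.sect ((EtDual.secSupp j).obj F) V) :
    EtShriek.sectSupp ((EtDual.secSupp j).obj F) V s ⊆ V.hom.base ⁻¹' (Set.range j.base)ᶜ := by
  intro x hx hxU
  let G := (EtDual.secSupp j).obj F
  haveI := pull_preservesFiniteLimits j
  haveI := pull_additive j
  have h0 : (EtCoh.pull j).map (𝟙 G) = 0 := by
    refine (cancel_mono ((EtCoh.pull j).map (kernel.ι (EtDual.unitApp j F)))).1 ?_
    rw [CategoryTheory.Functor.map_id, Category.id_comp, zero_comp]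
    exact (comp_unitApp_eq_zero_iff j _).1 (kernel.condition _)
  obtain ⟨Ω, _, _, ξ, u, hu⟩ := exists_point_through V x
  have e : (u.left : Spec (CommRingCat.of Ω) ⟶ V.left) ≫ V.hom = ξ := CategoryTheory.Over.w u
  have hξ : ξ.base (default : Spec (CommRingCat.of Ω)) ∈ Set.range j.base := by
    rw [← e, Scheme.Hom.comp_apply, hu]
    exact hxU
  have hz : IsZero ((EtCoh.stalk ξ).obj G) :=
    (IsZero.iff_id_eq_zero _).2
      (((EtCoh.stalk ξ).map_id G).symm.trans ((pull_map_eq_zero_iff_stalks j _).1 h0 Ω ξ hξ))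
  have h1 : (Scheme.pointSmallEtale ξ).toPresheafFiber V u G.obj s =
      (Scheme.pointSmallEtale ξ).toPresheafFiber V u G.obj 0 :=
    @Subsingleton.elim _ (AddCommGrpCat.subsingleton_of_isZero hz) _ _
  obtain ⟨W, g, w, hw, hs⟩ := ((Scheme.pointSmallEtale ξ).toPresheafFiber_eq_iff' _ _ _ _).1 h1
  refine hx W g ⟨(w.left : Spec (CommRingCat.of Ω) ⟶ W.left).base (default : Spec (CommRingCat.of Ω)), ?_⟩
    (hs.trans (map_zero _))
  refine Eq.trans ?_ (hu default)
  rw [← hw]
  exact (Scheme.Hom.comp_apply _ _ _).symm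

variable {X' U' : Scheme.{u}} (π : X' ⟶ X) [AlgebraicGeometry.Etale π] (j' : U' ⟶ X') [IsOpenImmersion j']
  [EtCoh.BCCont j'] (hU : Set.range j'.base = π.base ⁻¹' Set.range j.base)

/-- The terminal object of the site of `X'`, seen over `X`, mapping to the terminal object. -/
noncomputable def toTop : (EtShriek.compEtale π).obj (EtCoh.top X') ⟶ EtCoh.top X :=
  MorphismProperty.Over.homMk π ((Category.comp_id _).trans (Category.id_comp _).symm) trivial

/-- Restriction of global sections along an étale morphism. -/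
noncomputable def gsecRestr [EtShriek.JCont π] : EtCore.gsec X ⟶ EtShriek.restrAlong π ⋙ EtCore.gsec X' where
  app F := F.obj.map (toTop π).op
  naturality _ _ f := (f.hom.naturality (toTop π).op).symm

variable (hZ : Set.BijOn π.base (Set.range j'.base)ᶜ (Set.range j.base)ᶜ)
  (hκ : ∀ x' : ↥X', x' ∉ Set.range j'.base → Function.Surjective (π.residueFieldMap x'))

include hU hZ hκ in
theorem isIso_gsecRestr [EtShriek.JCont π] (F : EtCoh.Ab X) :
    IsIso ((gsecRestr π).app ((EtDual.secSupp j).obj F)) := by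
  rw [ConcreteCategory.isIso_iff_bijective]
  let G := (EtDual.secSupp j).obj F
  have h := ExciseSect.bijOn_restrict G (toTop π) (Set.range j.base)ᶜ j.isOpenEmbedding.isOpen_range.isClosed_compl
    (by
      show Set.BijOn π.base (π.base ⁻¹' (Set.range j.base)ᶜ) (Set.range j.base)ᶜ
      rw [Set.preimage_compl, ← hU]
      exact hZ)
    (fun x hx => hκ x (fun h => hx (show x ∈ π.base ⁻¹' Set.range j.base from hU ▸ h)))
  refine ⟨fun a b hab => h.injOn ?_ ?_ hab, fun b => ?_⟩
  · exact sectSupp_secSupp j F _ a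
  · exact sectSupp_secSupp j F _ b
  · have hb : EtShriek.sectSupp G ((EtShriek.compEtale π).obj (EtCoh.top X')) b ⊆
        (toTop π).left.base ⁻¹' (Set.range j.base)ᶜ := by
      refine (sectSupp_secSupp j F _ b).trans fun x hx => ?_
      show π.base x ∈ (Set.range j.base)ᶜ
      have e : ((EtShriek.compEtale π).obj (EtCoh.top X')).hom = π := Category.id_comp π
      have hx' := Set.mem_preimage.1 hx
      rwa [e] at hx'
    obtain ⟨a, -, ha⟩ := h.surjOn hb
    exact ⟨a, ha⟩

include hU hZ hκ in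
/-- Étale excision. -/
theorem nonempty_HY_iso_etale_excision (F : EtCoh.Ab X) (q : ℕ) :
    Nonempty ((EtDual.HY j q).obj F ≅ (EtDual.HY j' q).obj ((EtCoh.pull π).obj F)) := by
  haveI := jCont π
  haveI := pull_preservesFiniteLimits π
  haveI := pull_preservesInjective π
  haveI := pull_additive π
  haveI := fun G => isIso_gsecRestr j π j' hU hZ hκ G
  let a : EtDual.secSupp j ⋙ EtCore.gsec X ⟶ EtDual.secSupp j ⋙ EtShriek.restrAlong π ⋙ EtCore.gsec X' :=
    Functor.whiskerLeft _ (gsecRestr π)
  have ha : IsIso a := @NatIso.isIso_of_isIso_app _ _ _ _ _ _ a fun G => isIso_gsecRestr j π j' hU hZ hκ G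
  let e : EtDual.gammaSupp j ≅ EtCoh.pull π ⋙ EtDual.gammaSupp j' :=
    @asIso _ _ _ _ a ha ≪≫ Functor.isoWhiskerLeft _ (Functor.isoWhiskerRight (restrIsoPull' π) _) ≪≫
      (Functor.associator _ _ _).symm ≪≫ Functor.isoWhiskerRight (pullSecSuppIso j π j' hU) _ ≪≫
      Functor.associator _ _ _
  obtain ⟨e₂⟩ := nonempty_rightDerived_precomp (EtCoh.pull π) (EtDual.gammaSupp j') F q
  exact ⟨(RDer.rightDerivedIso e q).app F ≪≫ e₂⟩

end Groth.Agent.LocCohLib
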